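import Groth.Agent.NodalLib.Node
import Groth.Agent.DimFormulaLib.Field
import Groth.Agent.DimFormulaLib.FibrePoints
import Groth.Agent.FlatDim.Trdeg
import Groth.Agent.GenIrredLib.EquidimQF
import Groth.Agent.S0115

/-! # Nodal families and etale maps of the source -/

set_option autoImplicit false
set_option backward.isDefEq.respectTransparency false
set_option linter.style.haveILetI false

universe u

open CategoryTheory CategoryTheory.Limits AlgebraicGeometry TopologicalSpace
open Groth.Agent.DimFormulaLib

noncomputable section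

namespace Groth.Agent.NodalLib

/-- All components have dimension one. -/
def Comps1 (X : Scheme.{u}) : Prop := ∀ Z ∈ irreducibleComponents (X : Type u), topologicalKrullDim Z = 1

section Field

variable {k : Type u} [Field k] {X : Scheme.{u}} (f : X ⟶ Spec (CommRingCat.of k)) [LocallyOfFiniteType f]

include f in
/-- All components have dimension one iff all generic points have transcendence degree one. -/
theorem comps1_iff : Comps1 X ↔ ∀ z : X, (∀ w : X, w ⤳ z → w = z) → resTrdegAt f z = 1 := by
  constructor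
  · intro h z hz
    obtain ⟨a, t, -, ht, -, hh⟩ := field_dims f z
    have h1 := h _ (closure_mem_irreducibleComponents hz)
    rw [topologicalKrullDim_closure_singleton, hh] at h1
    have : t = 1 := by exact_mod_cast h1
    rw [ht, this, Nat.cast_one]
  · intro h Z hZ
    obtain ⟨z, rfl, hz⟩ := exists_generic_of_mem_irreducibleComponents hZ
    obtain ⟨a, t, -, ht, -, hh⟩ := field_dims f z
    have : t = 1 := by exact_mod_cast ht.symm.trans (h z hz)
    rw [topologicalKrullDim_closure_singleton, hh, this]
    rfl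

variable {Y : Scheme.{u}} (π : Y ⟶ X) [Etale π]

theorem resTrdegAt_etale_comp (z : Y) : resTrdegAt (π ≫ f) z = resTrdegAt f (π z) := by
  haveI := locallyQuasiFinite_of_unramified π
  rw [FlatDim.resTrdegAt_comp, GenIrredLib.resTrdegAt_locallyQuasiFinite π, add_zero]

omit [LocallyOfFiniteType f] in
include π in
/-- Generic points map to generic points. -/
theorem generic_map {z : Y} (hz : ∀ w : Y, w ⤳ z → w = z) (w : X) (hw : w ⤳ π z) : w = π z := by
  obtain ⟨w', hw', rfl⟩ := Flat.generalizingMap (f := π) hw
  rw [hz w' hw']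

omit [LocallyOfFiniteType f] in
include π in
/-- Points over generic points are generic. -/
theorem generic_over {z : Y} (hz : ∀ w : X, w ⤳ π z → w = π z) (w : Y) (hw : w ⤳ z) : w = z := by
  haveI := locallyQuasiFinite_of_unramified π
  have he : π w = π z := hz _ (hw.map π.continuous)
  obtain ⟨a, ha⟩ : w ∈ Set.range (π.fiberι (π z)) := by rw [π.range_fiberι]; exact he
  have hs : a ⤳ π.asFiber z := (π.fiberι (π z)).isEmbedding.isInducing.specializes_iff.1 (by
    rw [ha, π.fiberι_asFiber]; exact hw)
  have h1 := (π.quasiFiniteAt z).isClopen_singleton_asFiber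
  rw [← ha, Set.mem_singleton_iff.1 (hs.mem_open h1.2 rfl), π.fiberι_asFiber]

include f π in
theorem comps1_of_etale (h : Comps1 X) : Comps1 Y := by
  rw [comps1_iff (π ≫ f)]
  intro z hz
  rw [resTrdegAt_etale_comp f π]
  exact (comps1_iff f).1 h _ (generic_map π hz)

end Field

variable {k : Type u} [Field k] {X Y : Scheme.{u}} [X.Over (Spec (CommRingCat.of k))]
  [Y.Over (Spec (CommRingCat.of k))] [LocallyOfFiniteType (X ↘ Spec (CommRingCat.of k))]

/-- At-worst-nodal passes to etale schemes over it. -/
theorem atWorstNodal_of_etale (π : Y ⟶ X) [Etale π]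
    (w : π ≫ (X ↘ Spec (CommRingCat.of k)) = (Y ↘ Spec (CommRingCat.of k)))
    (h : Curv2.AtWorstNodal k X) : Curv2.AtWorstNodal k Y := by
  intro y hy
  rcases h (π y) (isClosed_image (k := k) π hy) with ⟨U, hU, hs⟩ | hn
  · refine Or.inl ⟨π ⁻¹ᵁ U, hU, ?_⟩
    haveI := hs
    rw [← w, ← Category.assoc, ← morphismRestrict_ι π U, Category.assoc]
    haveI : Etale (π ∣_ U) := IsZariskiLocalAtTarget.restrict (P := @Etale) inferInstance U
    infer_instance
  · exact Or.inr ((isNode_iff_etale π w y).1 hn)

/-- At-worst-nodal descends along etale maps at points in the image. -/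
theorem node_or_smooth_of_etale (π : Y ⟶ X) [Etale π]
    (w : π ≫ (X ↘ Spec (CommRingCat.of k)) = (Y ↘ Spec (CommRingCat.of k)))
    (h : Curv2.AtWorstNodal k Y) (y : Y) (hy : IsClosed ({π y} : Set X)) :
    (∃ U : X.Opens, π y ∈ U ∧ Smooth (U.ι ≫ (X ↘ Spec (CommRingCat.of k)))) ∨ Curv2.IsNode k X (π y) := by
  haveI := locallyQuasiFinite_of_unramified π
  rcases h y (isClosed_of_image π hy) with ⟨V, hV, hs⟩ | hn
  · haveI := hs
    let g : (V : Scheme.{u}) ⟶ X := V.ι ≫ π
    let U : X.Opens := ⟨Set.range g, g.isOpenMap.isOpen_range⟩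
    refine Or.inl ⟨U, ⟨⟨y, hV⟩, rfl⟩, ?_⟩
    let g' : (V : Scheme.{u}) ⟶ U := IsOpenImmersion.lift U.ι g (by rw [Scheme.Opens.range_ι]; exact subset_rfl)
    have hg : g' ≫ U.ι = g := IsOpenImmersion.lift_fac _ _ _
    haveI : Etale g' := by
      haveI : Etale (g' ≫ U.ι) := by rw [hg]; infer_instance
      exact Etale.of_comp g' U.ι
    haveI : Surjective g' := ⟨fun u => by
      obtain ⟨v, hv⟩ := u.2
      refine ⟨v, U.ι.isOpenEmbedding.injective ?_⟩
      rw [← Scheme.Hom.comp_apply, hg]
      exact hv⟩
    haveI : Smooth (g' ≫ U.ι ≫ (X ↘ Spec (CommRingCat.of k))) := by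
      rw [← Category.assoc, hg, show g = V.ι ≫ π from rfl, Category.assoc, w]
      infer_instance
    exact Groth.Agent.S0115.result g' _
  · exact Or.inr ((isNode_iff_etale π w y).2 hn)

section Fibre

variable {X Y S : Scheme.{u}} (f : X ⟶ S) (g : Y ⟶ X) (s : S)

/-- The map of fibres. -/
def fibreMap : (g ≫ f).fiber s ⟶ f.fiber s :=
  pullback.lift ((g ≫ f).fiberι s ≫ g) ((g ≫ f).fiberToSpecResidueField s)
    (by rw [Category.assoc]; exact pullback.condition)

theorem fibreMap_ι : fibreMap f g s ≫ f.fiberι s = (g ≫ f).fiberι s ≫ g := pullback.lift_fst _ _ _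

theorem fibreMap_snd : fibreMap f g s ≫ f.fiberToSpecResidueField s = (g ≫ f).fiberToSpecResidueField s :=
  pullback.lift_snd _ _ _

theorem isPullback_fibreMap : IsPullback (fibreMap f g s) ((g ≫ f).fiberι s) (f.fiberι s) g := by
  refine IsPullback.of_right ?_ (fibreMap_ι f g s) (IsPullback.of_hasPullback f (S.fromSpecResidueField s)).flip
  rw [show fibreMap f g s ≫ pullback.snd f (S.fromSpecResidueField s) = (g ≫ f).fiberToSpecResidueField s from
    fibreMap_snd f g s]
  exact (IsPullback.of_hasPullback (g ≫ f) (S.fromSpecResidueField s)).flip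

instance [Etale g] : Etale (fibreMap f g s) :=
  MorphismProperty.of_isPullback (isPullback_fibreMap f g s).flip inferInstance

theorem exists_fibreMap_eq {y : Y} {x : f.fiber s} (h : g y = f.fiberι s x) :
    ∃ z : (g ≫ f).fiber s, fibreMap f g s z = x := by
  obtain ⟨z, hz1, -⟩ := Scheme.Pullback.exists_preimage_pullback (f := f.fiberι s) (g := g) x y h.symm
  refine ⟨(isPullback_fibreMap f g s).isoPullback.inv z, ?_⟩
  rw [← Scheme.Hom.comp_apply, (isPullback_fibreMap f g s).isoPullback_inv_fst]
  exact hz1

instance [LocallyOfFinitePresentation f] : LocallyOfFiniteType (f.fiberToSpecResidueField s) :=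
  MorphismProperty.pullback_snd _ _ inferInstance

end Fibre

end Groth.Agent.NodalLib
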