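import Groth.Agent.NodalLib.Node
import Mathlib.AlgebraicGeometry.AlgClosed.Basic
import Mathlib.RingTheory.Etale.Field

/-! # Nodes and finite separable extensions of the base field -/

set_option autoImplicit false
set_option backward.isDefEq.respectTransparency false
set_option linter.style.haveILetI false

universe u

open CategoryTheory CategoryTheory.Limits AlgebraicGeometry IsLocalRing

noncomputable section

namespace Groth.Agent.NodalLib

/-- Power series rings of isomorphic fields. -/
def psEquiv {K L : Type u} [Field K] [Field L] (σ : K ≃+* L) :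
    MvPowerSeries (Fin 2) K ≃+* MvPowerSeries (Fin 2) L :=
  RingEquiv.ofRingHom (MvPowerSeries.map σ.toRingHom) (MvPowerSeries.map σ.symm.toRingHom)
    (RingHom.ext fun f => MvPowerSeries.ext fun i => by simp)
    (RingHom.ext fun f => MvPowerSeries.ext fun i => by simp)

theorem isOrdDoublePt_of_fieldEquiv {K L : Type u} [Field K] [Field L] (σ : K ≃+* L) {A : Type u} [CommRing A]
    [Algebra K A] [Algebra L A] [IsLocalRing A] (hσ : ∀ c, algebraMap L A (σ c) = algebraMap K A c)
    (h : Curv2.IsOrdDoublePt K A) : Curv2.IsOrdDoublePt L A := by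
  obtain ⟨e, he⟩ := h
  have hI : Ideal.span {(MvPowerSeries.X 0 * MvPowerSeries.X 1 : MvPowerSeries (Fin 2) L)} =
      (Ideal.span {(MvPowerSeries.X 0 * MvPowerSeries.X 1 : MvPowerSeries (Fin 2) K)}).map (psEquiv σ) := by
    rw [Ideal.map_span, Set.image_singleton, map_mul]
    simp [psEquiv, MvPowerSeries.map_X]
  refine ⟨e.trans (Ideal.quotientEquiv _ _ (psEquiv σ) hI), fun c => ?_⟩
  obtain ⟨c, rfl⟩ := σ.surjective c
  rw [RingEquiv.trans_apply, hσ, he, Ideal.quotientEquiv_mk]
  simp [psEquiv, MvPowerSeries.map_C]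

/-- Change of the base field of a scheme along an isomorphism. -/
theorem stalkMap_fieldEquiv {K L : Type u} [Field K] [Field L] (σ : K ≃+* L) {V : Scheme.{u}}
    [V.Over (Spec (CommRingCat.of K))] [V.Over (Spec (CommRingCat.of L))]
    (hV : (V ↘ Spec (CommRingCat.of L)) ≫ Spec.map (CommRingCat.ofHom σ.toRingHom) =
      (V ↘ Spec (CommRingCat.of K))) (x : V) (c : K) :
    Curv2.stalkMap L V x (σ c) = Curv2.stalkMap K V x c := by
  refine congrArg (V.presheaf.germ ⊤ x trivial) ?_
  show (V ↘ Spec (CommRingCat.of L)).appTop ((Scheme.ΓSpecIso (CommRingCat.of L)).inv (σ c)) =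
    (V ↘ Spec (CommRingCat.of K)).appTop ((Scheme.ΓSpecIso (CommRingCat.of K)).inv c)
  rw [← hV, Scheme.Hom.comp_appTop]
  exact congrArg ((V ↘ Spec (CommRingCat.of L)).appTop)
    (congrArg (fun g => g c) (Scheme.ΓSpecIso_inv_naturality (CommRingCat.ofHom σ.toRingHom)))

/-- An ordinary double point of the geometric base change. -/
def OrdPtBc (k : Type u) [Field k] (X : Scheme.{u}) [X.Over (Spec (CommRingCat.of k))]
    (z : Curv2.bc k X (AlgebraicClosure k)) : Prop :=
  letI : (Curv2.bc k X (AlgebraicClosure k)).Over (Spec (CommRingCat.of (AlgebraicClosure k))) :=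
    ⟨Curv2.bcSnd k X (AlgebraicClosure k)⟩
  letI := Curv2.stalkAlgebra (AlgebraicClosure k) (Curv2.bc k X (AlgebraicClosure k)) z
  Curv2.IsOrdDoublePt (AlgebraicClosure k) ((Curv2.bc k X (AlgebraicClosure k)).presheaf.stalk z)

theorem etale_specMap (k k' : Type u) [Field k] [Field k'] [Algebra k k'] [FiniteDimensional k k']
    [Algebra.IsSeparable k k'] : Etale (Spec.map (CommRingCat.ofHom (algebraMap k k'))) := by
  rw [HasRingHomProperty.Spec_iff (P := @Etale), CommRingCat.hom_ofHom, RingHom.etale_algebraMap]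
  haveI : Algebra.FormallyEtale k k' := Algebra.FormallyEtale.of_isSeparable k k'
  exact ⟨inferInstance, Algebra.FinitePresentation.of_finiteType.1 inferInstance⟩

variable (k : Type u) [Field k] {k' : Type u} [Field k'] [Algebra k k'] [FiniteDimensional k k']
  [Algebra.IsSeparable k k'] {X : Scheme.{u}} [X.Over (Spec (CommRingCat.of k'))] [X.Over (Spec (CommRingCat.of k))]
  [LocallyOfFiniteType (X ↘ Spec (CommRingCat.of k'))]

/-- Comparison of the geometric base changes along an embedding. -/
theorem ordPt_compare (hX : (X ↘ Spec (CommRingCat.of k')) ≫ Spec.map (CommRingCat.ofHom (algebraMap k k')) =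
      (X ↘ Spec (CommRingCat.of k))) (σ : AlgebraicClosure k ≃ₐ[k] AlgebraicClosure k') :
    ∃ j : Curv2.bc k' X (AlgebraicClosure k') ⟶ Curv2.bc k X (AlgebraicClosure k),
      j ≫ Curv2.bcFst k X (AlgebraicClosure k) = Curv2.bcFst k' X (AlgebraicClosure k') ∧
      j ≫ Curv2.bcSnd k X (AlgebraicClosure k) =
        Curv2.bcSnd k' X (AlgebraicClosure k') ≫ Spec.map (CommRingCat.ofHom σ.toRingEquiv.toRingHom) ∧
      ∀ z, IsClosed ({z} : Set (Curv2.bc k' X (AlgebraicClosure k'))) →
        (OrdPtBc k X (j z) ↔ OrdPtBc k' X z) := by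
  let K := AlgebraicClosure k
  let K' := AlgebraicClosure k'
  let s : Spec (CommRingCat.of K) ⟶ Spec (CommRingCat.of k) := Spec.map (CommRingCat.ofHom (algebraMap k K))
  let s' : Spec (CommRingCat.of K') ⟶ Spec (CommRingCat.of k') := Spec.map (CommRingCat.ofHom (algebraMap k' K'))
  let e : Spec (CommRingCat.of k') ⟶ Spec (CommRingCat.of k) := Spec.map (CommRingCat.ofHom (algebraMap k k'))
  let t : Spec (CommRingCat.of K') ⟶ Spec (CommRingCat.of K) := Spec.map (CommRingCat.ofHom σ.toRingEquiv.toRingHom)
  haveI : IsIso t := by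
    haveI : IsIso (CommRingCat.ofHom σ.toRingEquiv.toRingHom) :=
      (σ.toRingEquiv.toCommRingCatIso).isIso_hom
    infer_instance
  have ht : t ≫ s = s' ≫ e := by
    rw [← Spec.map_comp, ← Spec.map_comp, ← CommRingCat.ofHom_comp, ← CommRingCat.ofHom_comp]
    congr 2
    refine RingHom.ext fun c => ?_
    exact (σ.commutes c).trans (IsScalarTower.algebraMap_apply k k' K' c)
  haveI : Etale e := etale_specMap k k'
  let γ : Spec (CommRingCat.of K') ⟶ pullback e s := pullback.lift s' t ht.symm
  haveI : Etale γ := by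
    haveI : Etale (γ ≫ pullback.snd e s) := by rw [pullback.lift_snd]; infer_instance
    exact Etale.of_comp γ (pullback.snd e s)
  let j : Curv2.bc k' X K' ⟶ Curv2.bc k X K := pullback.lift (pullback.fst _ _) (pullback.snd _ _ ≫ t) (by
    rw [Category.assoc, ht, ← hX, ← Category.assoc, ← Category.assoc]
    exact congrArg (· ≫ e) pullback.condition)
  let q : Curv2.bc k X K ⟶ pullback e s := pullback.lift (pullback.fst _ _ ≫ (X ↘ Spec (CommRingCat.of k')))
    (pullback.snd _ _) (by rw [Category.assoc, hX]; exact pullback.condition)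
  have sqj : IsPullback j (pullback.snd _ _) q γ := by
    have sqX : IsPullback q (pullback.fst _ _) (pullback.fst e s) (X ↘ Spec (CommRingCat.of k')) := by
      refine IsPullback.of_right ?_ (pullback.lift_fst _ _ _) (IsPullback.of_hasPullback e s).flip
      rw [pullback.lift_snd, hX]
      exact (IsPullback.of_hasPullback (X ↘ Spec (CommRingCat.of k)) s).flip
    refine IsPullback.of_right ?_ ?_ sqX.flip
    · rw [pullback.lift_fst, pullback.lift_fst]
      exact IsPullback.of_hasPullback _ _
    · refine pullback.hom_ext ?_ ?_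
      · simp only [Category.assoc, q, γ, j, pullback.lift_fst, pullback.lift_fst_assoc]
        exact pullback.condition
      · simp only [Category.assoc, q, γ, j, pullback.lift_snd]
  haveI : Etale j := MorphismProperty.of_isPullback sqj.flip inferInstance
  refine ⟨j, pullback.lift_fst _ _ _, pullback.lift_snd _ _ _, fun z hz => ?_⟩
  letI : (Curv2.bc k X K).Over (Spec (CommRingCat.of K)) := ⟨Curv2.bcSnd k X K⟩
  letI : (Curv2.bc k' X K').Over (Spec (CommRingCat.of K')) := ⟨Curv2.bcSnd k' X K'⟩
  letI : (Curv2.bc k' X K').Over (Spec (CommRingCat.of K)) := ⟨Curv2.bcSnd k' X K' ≫ t⟩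
  haveI : LocallyOfFiniteType (X ↘ Spec (CommRingCat.of k)) := by
    rw [← hX]; exact inferInstanceAs (LocallyOfFiniteType ((X ↘ Spec (CommRingCat.of k')) ≫ e))
  haveI : LocallyOfFiniteType (Curv2.bc k X K ↘ Spec (CommRingCat.of K)) :=
    inferInstanceAs (LocallyOfFiniteType (pullback.snd (X ↘ Spec (CommRingCat.of k)) s))
  refine (ordPt_iff_of_etale (K := K) j (pullback.lift_snd _ _ _) hz).trans ?_
  have hs : ∀ c : K, Curv2.stalkMap K' (Curv2.bc k' X K') z (σ.toRingEquiv c) =
      Curv2.stalkMap K (Curv2.bc k' X K') z c := stalkMap_fieldEquiv σ.toRingEquiv rfl z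
  letI := Curv2.stalkAlgebra K (Curv2.bc k' X K') z
  letI := Curv2.stalkAlgebra K' (Curv2.bc k' X K') z
  refine ⟨isOrdDoublePt_of_fieldEquiv σ.toRingEquiv hs,
    isOrdDoublePt_of_fieldEquiv σ.toRingEquiv.symm fun c => ?_⟩
  refine ((hs _).symm.trans ?_)
  exact congrArg (Curv2.stalkMap K' (Curv2.bc k' X K') z) (σ.toRingEquiv.apply_symm_apply c)

/-- Nodes over a finite separable extension and over the base field. -/
theorem isNode_iff_fieldChange (hX : (X ↘ Spec (CommRingCat.of k')) ≫ Spec.map (CommRingCat.ofHom (algebraMap k k')) =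
      (X ↘ Spec (CommRingCat.of k))) (x : X) :
    Curv2.IsNode k' X x ↔ Curv2.IsNode k X x := by
  let K := AlgebraicClosure k
  let K' := AlgebraicClosure k'
  haveI : Algebra.IsAlgebraic k K' := Algebra.IsAlgebraic.trans k k' K'
  haveI : IsAlgClosure k K' := ⟨inferInstance, inferInstance⟩
  constructor
  · rintro ⟨hx, z, hz, h⟩
    obtain ⟨j, hj, -, hord⟩ := ordPt_compare k hX (IsAlgClosure.equiv k K K')
    refine ⟨hx, j z, by rw [← hz, ← Scheme.Hom.comp_apply, hj], (hord z (closed_over hx z hz)).2 h⟩
  · rintro ⟨hx, xb, hxb, h⟩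
    letI : (Curv2.bc k X K).Over (Spec (CommRingCat.of K)) := ⟨Curv2.bcSnd k X K⟩
    haveI : LocallyOfFiniteType (X ↘ Spec (CommRingCat.of k)) := by
      haveI := etale_specMap k k'
      rw [← hX]; infer_instance
    haveI : LocallyOfFiniteType (Curv2.bcSnd k X K) :=
      inferInstanceAs (LocallyOfFiniteType (pullback.snd (X ↘ Spec (CommRingCat.of k)) _))
    have hxc : IsClosed ({xb} : Set (Curv2.bc k X K)) := closed_over hx xb hxb
    let p := pointOfClosedPoint (Curv2.bcSnd k X K) xb hxc
    have hp : p ≫ Curv2.bcSnd k X K = 𝟙 _ := pointOfClosedPoint_comp _ _ _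
    let emb : k' →+* K := (Spec.preimage (p ≫ Curv2.bcFst k X K ≫ (X ↘ Spec (CommRingCat.of k')))).hom
    have hemb : Spec.map (CommRingCat.ofHom emb) = p ≫ Curv2.bcFst k X K ≫ (X ↘ Spec (CommRingCat.of k')) :=
      Spec.map_preimage _
    have hk : emb.comp (algebraMap k k') = algebraMap k K := by
      have h1 : CommRingCat.ofHom (algebraMap k k') ≫ CommRingCat.ofHom emb = CommRingCat.ofHom (algebraMap k K) := by
        refine Spec.map_injective ?_
        rw [Spec.map_comp, hemb, Category.assoc, Category.assoc, hX]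
        conv_rhs => rw [← Category.id_comp (Spec.map _), ← hp, Category.assoc]
        exact congrArg (p ≫ ·) pullback.condition
      exact congrArg CommRingCat.Hom.hom h1
    letI : Algebra k' K := emb.toAlgebra
    haveI : IsScalarTower k k' K := .of_algebraMap_eq fun c => (RingHom.congr_fun hk c).symm
    haveI : Algebra.IsAlgebraic k' K := Algebra.IsAlgebraic.tower_top (K := k) k'
    haveI : IsAlgClosure k' K := ⟨inferInstance, inferInstance⟩
    let σ : K ≃ₐ[k] K' := (IsAlgClosure.equiv k' K K').restrictScalars k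
    obtain ⟨j, hj, hj2, hord⟩ := ordPt_compare k hX σ
    -- the point over the given one
    let t' : Spec (CommRingCat.of K') ⟶ Spec (CommRingCat.of K) := Spec.map (CommRingCat.ofHom σ.toRingEquiv.toRingHom)
    let p' : Spec (CommRingCat.of K') ⟶ Curv2.bc k' X K' :=
      pullback.lift (t' ≫ p ≫ Curv2.bcFst k X K) (𝟙 _) (by
        rw [Category.id_comp, Category.assoc, Category.assoc, ← hemb, ← Spec.map_comp, ← CommRingCat.ofHom_comp]
        congr 2
        exact RingHom.ext fun c => (IsAlgClosure.equiv k' K K').commutes c)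
    have hpp : p' ≫ j = t' ≫ p := by
      refine pullback.hom_ext ?_ ?_
      · rw [Category.assoc, hj, Category.assoc]
        exact pullback.lift_fst _ _ _
      · rw [Category.assoc, hj2, Category.assoc, hp, Category.comp_id, ← Category.assoc,
          show p' ≫ Curv2.bcSnd k' X K' = 𝟙 _ from pullback.lift_snd _ _ _, Category.id_comp]
    let z := p' (IsLocalRing.closedPoint K')
    have hjz : j z = xb := by
      show j (p' _) = _
      rw [← Scheme.Hom.comp_apply, hpp, Scheme.Hom.comp_apply]
      exact pointOfClosedPoint_apply _ _ _ _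
    have hz : Curv2.bcFst k' X K' z = x := by rw [← hj, Scheme.Hom.comp_apply, hjz, hxb]
    refine ⟨hx, z, hz, (hord z (closed_over hx z hz)).1 ?_⟩
    rw [hjz]
    exact h

end Groth.Agent.NodalLib
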