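import Groth.Agent.NodalLib.Local
import Groth.Agent.NormalSch.Birational
import Groth.Prelude.Def_CurvBase
import Mathlib.AlgebraicGeometry.Morphisms.QuasiFinite
import Mathlib.AlgebraicGeometry.Morphisms.Etale

/-! # Nodes and etale maps -/

set_option autoImplicit false
set_option backward.isDefEq.respectTransparency false
set_option linter.style.haveILetI false

universe u

open CategoryTheory CategoryTheory.Limits AlgebraicGeometry IsLocalRing

noncomputable section

namespace Groth.Agent.NodalLib

variable {k : Type u} [Field k]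

/-- Unramified maps of finite type are locally quasi-finite. -/
theorem locallyQuasiFinite_of_unramified {X Y : Scheme.{u}} (f : X ⟶ Y) [LocallyOfFiniteType f]
    [FormallyUnramified f] : LocallyQuasiFinite f := by
  refine ⟨fun {U} hU {V} hV e => ?_⟩
  have h1 := f.formallyUnramified_appLE hU hV e
  have h2 := LocallyOfFiniteType.finiteType_appLE f hU hV e
  algebraize [(f.appLE U V e).hom]
  rw [← RingHom.algebraMap_toAlgebra (f.appLE U V e).hom, RingHom.quasiFinite_algebraMap]
  infer_instance

/-- A closed point of the target of a quasi-finite map has closed preimages. -/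
theorem isClosed_of_image {X Y : Scheme.{u}} (π : Y ⟶ X) [LocallyQuasiFinite π] [LocallyOfFiniteType π] {y : Y}
    (hx : IsClosed ({π y} : Set X)) : IsClosed ({y} : Set Y) := by
  have h := (π.quasiFiniteAt y).isClopen_singleton_asFiber.1
  have he : Topology.IsClosedEmbedding (π.fiberι (π y)) :=
    ⟨(π.fiberι (π y)).isEmbedding, by rw [π.range_fiberι]; exact hx.preimage π.continuous⟩
  have h2 := he.isClosedMap _ h
  rwa [Set.image_singleton, π.fiberι_asFiber] at h2

/-- Images of closed points of schemes of finite type over a field are closed. -/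
theorem isClosed_image {X Y : Scheme.{u}} [X.Over (Spec (CommRingCat.of k))]
    [LocallyOfFiniteType (X ↘ Spec (CommRingCat.of k))] (π : Y ⟶ X) [LocallyOfFiniteType π] {y : Y}
    (hy : IsClosed ({y} : Set Y)) : IsClosed ({π y} : Set X) := by
  haveI : JacobsonSpace X := LocallyOfFiniteType.jacobsonSpace (X ↘ Spec (CommRingCat.of k))
  exact π.closePoints_subset_preimage_closedPoints hy

/-- Points over closed points in an algebraic extension of the base field are closed. -/
theorem closed_over {Y : Scheme.{u}} [Y.Over (Spec (CommRingCat.of k))] {K : Type u} [Field K] [Algebra k K]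
    [Algebra.IsAlgebraic k K] {y : Y} (hy : IsClosed ({y} : Set Y)) (yb : Curv2.bc k Y K)
    (h : Curv2.bcFst k Y K yb = y) : IsClosed ({yb} : Set (Curv2.bc k Y K)) := by
  haveI : IsIntegralHom (Spec.map (CommRingCat.ofHom (algebraMap k K))) :=
    IsIntegralHom.SpecMap_iff.2 (algebraMap_isIntegral_iff.2 Algebra.IsAlgebraic.isIntegral)
  haveI : IsIntegralHom (Curv2.bcFst k Y K) :=
    inferInstanceAs (IsIntegralHom (pullback.fst _ _))
  refine closure_eq_iff_isClosed.1 (Set.Subset.antisymm (fun z hz => ?_) subset_closure)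
  have hs : yb ⤳ z := specializes_iff_mem_closure.2 hz
  have hz' : Curv2.bcFst k Y K z = y := (h ▸ hs.map (Curv2.bcFst k Y K).continuous).mem_closed hy rfl
  exact (NormalSch.eq_of_specializes_of_eq (Curv2.bcFst k Y K) hs (h.trans hz'.symm)).symm

/-- Nodes correspond under etale maps. -/
theorem isNode_iff_etale {X Y : Scheme.{u}} [X.Over (Spec (CommRingCat.of k))]
    [Y.Over (Spec (CommRingCat.of k))] [LocallyOfFiniteType (X ↘ Spec (CommRingCat.of k))] (π : Y ⟶ X) [Etale π]
    (w : π ≫ (X ↘ Spec (CommRingCat.of k)) = (Y ↘ Spec (CommRingCat.of k))) (y : Y) :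
    Curv2.IsNode k X (π y) ↔ Curv2.IsNode k Y y := by
  let K := AlgebraicClosure k
  let s : Spec (CommRingCat.of K) ⟶ Spec (CommRingCat.of k) := Spec.map (CommRingCat.ofHom (algebraMap k K))
  letI : (Curv2.bc k X K).Over (Spec (CommRingCat.of K)) := ⟨Curv2.bcSnd k X K⟩
  letI : (Curv2.bc k Y K).Over (Spec (CommRingCat.of K)) := ⟨Curv2.bcSnd k Y K⟩
  haveI : LocallyOfFiniteType (Curv2.bc k X K ↘ Spec (CommRingCat.of K)) :=
    inferInstanceAs (LocallyOfFiniteType (pullback.snd (X ↘ Spec (CommRingCat.of k)) s))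
  let πK : Curv2.bc k Y K ⟶ Curv2.bc k X K := pullback.lift (pullback.fst _ _ ≫ π) (pullback.snd _ _)
    (by rw [Category.assoc, w]; exact pullback.condition)
  have hfst : πK ≫ Curv2.bcFst k X K = Curv2.bcFst k Y K ≫ π := pullback.lift_fst _ _ _
  have hsnd : πK ≫ Curv2.bcSnd k X K = Curv2.bcSnd k Y K := pullback.lift_snd _ _ _
  have sq : IsPullback πK (Curv2.bcFst k Y K) (Curv2.bcFst k X K) π := by
    refine IsPullback.of_right ?_ hfst (IsPullback.of_hasPullback (X ↘ Spec (CommRingCat.of k)) s).flip
    rw [hsnd, w]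
    exact (IsPullback.of_hasPullback (Y ↘ Spec (CommRingCat.of k)) s).flip
  haveI : Etale πK := MorphismProperty.of_isPullback sq.flip inferInstance
  haveI : LocallyOfFiniteType (Curv2.bc k Y K ↘ Spec (CommRingCat.of K)) := by
    show LocallyOfFiniteType (Curv2.bcSnd k Y K)
    rw [← hsnd]
    infer_instance
  constructor
  · rintro ⟨hc, xb, hxb, h⟩
    obtain ⟨yb, hyb, hyy⟩ : ∃ yb : Curv2.bc k Y K, πK yb = xb ∧ Curv2.bcFst k Y K yb = y := by
      obtain ⟨z, hz1, hz2⟩ := Scheme.Pullback.exists_preimage_pullback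
        (f := Curv2.bcFst k X K) (g := π) xb y hxb
      refine ⟨sq.isoPullback.inv z, ?_, ?_⟩
      · rw [← Scheme.Hom.comp_apply, sq.isoPullback_inv_fst]; exact hz1
      · rw [← Scheme.Hom.comp_apply, sq.isoPullback_inv_snd]; exact hz2
    haveI := locallyQuasiFinite_of_unramified π
    have hyc : IsClosed ({y} : Set Y) := isClosed_of_image π hc
    refine ⟨hyc, yb, hyy, ?_⟩
    subst hyb
    exact (ordPt_iff_of_etale (K := K) πK hsnd (closed_over hyc yb hyy)).1 h
  · rintro ⟨hc, yb, hyb, h⟩
    refine ⟨isClosed_image (k := k) π hc, πK yb, ?_, (ordPt_iff_of_etale (K := K) πK hsnd (closed_over hc yb hyb)).2 h⟩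
    rw [← Scheme.Hom.comp_apply, hfst, Scheme.Hom.comp_apply, hyb]

end Groth.Agent.NodalLib
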