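import Groth.Agent.S9232
import Groth.Agent.CMCat.ComplQuot
import Groth.Agent.WLocalLib.UnivHomeoEtale
import Groth.Agent.EtLocalLib.SchemeLocal
import Groth.Agent.JacEquidimLib.Basic
import Groth.Agent.DimFormulaLib.Field
import Groth.Prelude.Def_CurvBase

/-! # Ordinary double points and etale maps -/

set_option autoImplicit false
set_option backward.isDefEq.respectTransparency false
set_option linter.style.haveILetI false

universe u

open CategoryTheory AlgebraicGeometry IsLocalRing

noncomputable section

namespace Groth.Agent.NodalLib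

/-- Being an ordinary double point only depends on the completion. -/
theorem isOrdDoublePt_iff {K : Type u} [Field K] {A B : Type u} [CommRing A] [CommRing B] [Algebra K A]
    [Algebra K B] [IsLocalRing A] [IsLocalRing B] [IsNoetherianRing A] [IsNoetherianRing B] (φ : A →+* B)
    [IsLocalHom φ] (hflat : φ.Flat) (hm : (maximalIdeal A).map φ = maximalIdeal B)
    (hk : Function.Bijective (ResidueField.map φ)) (hK : φ.comp (algebraMap K A) = algebraMap K B) :
    Curv2.IsOrdDoublePt K A ↔ Curv2.IsOrdDoublePt K B := by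
  letI := φ.toAlgebra
  haveI : Module.Flat A B := hflat
  haveI : IsLocalHom (algebraMap A B) := ‹IsLocalHom φ›
  let ψ := CMCat.complHom φ (maximalIdeal A) (maximalIdeal B) hm.le
  have hψ : ψ.comp (algebraMap A (AdicCompletion (maximalIdeal A) A)) =
      (algebraMap B (AdicCompletion (maximalIdeal B) B)).comp (algebraMap A B) :=
    RingHom.ext fun a => CMCat.complHom_algebraMap φ _ _ hm.le a
  let Ψ := RingEquiv.ofBijective ψ (Groth.Agent.S9232.result A B hm hk ψ hψ)
  have hc : ∀ c : K, Ψ (algebraMap A _ (algebraMap K A c)) = algebraMap B _ (algebraMap K B c) := fun c => by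
    refine (RingHom.congr_fun hψ (algebraMap K A c)).trans ?_
    rw [← hK]
    rfl
  constructor
  · rintro ⟨e, he⟩
    exact ⟨Ψ.symm.trans e, fun c => by rw [RingEquiv.trans_apply, ← hc, RingEquiv.symm_apply_apply, he]⟩
  · rintro ⟨e, he⟩
    exact ⟨Ψ.trans e, fun c => by rw [RingEquiv.trans_apply, hc, he]⟩

/-- Compatibility of the maps from the base field to the stalks. -/
theorem stalkMap_comp {K : Type u} [Field K] {V W : Scheme.{u}} [V.Over (Spec (CommRingCat.of K))]
    [W.Over (Spec (CommRingCat.of K))] (h : W ⟶ V)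
    (w : h ≫ (V ↘ Spec (CommRingCat.of K)) = (W ↘ Spec (CommRingCat.of K))) (y : W) :
    (h.stalkMap y).hom.comp (Curv2.stalkMap K V (h y)) = Curv2.stalkMap K W y := by
  refine RingHom.ext fun c => ?_
  show h.stalkMap y (V.presheaf.germ ⊤ (h y) trivial (Coh.toGlobal (V ↘ Spec (CommRingCat.of K)) c)) =
    W.presheaf.germ ⊤ y trivial (Coh.toGlobal (W ↘ Spec (CommRingCat.of K)) c)
  rw [Scheme.Hom.germ_stalkMap_apply]
  refine congrArg (W.presheaf.germ ⊤ y trivial) ?_
  show h.appTop ((V ↘ Spec (CommRingCat.of K)).appTop ((Scheme.ΓSpecIso (CommRingCat.of K)).inv c)) =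
    (W ↘ Spec (CommRingCat.of K)).appTop ((Scheme.ΓSpecIso (CommRingCat.of K)).inv c)
  rw [← w, Scheme.Hom.comp_appTop]
  rfl

/-- Closed points over an algebraically closed field are rational. -/
theorem resMap_surjective {K : Type u} [Field K] [IsAlgClosed K] {V : Scheme.{u}}
    [V.Over (Spec (CommRingCat.of K))] [LocallyOfFiniteType (V ↘ Spec (CommRingCat.of K))] {x : V}
    (hx : IsClosed ({x} : Set V)) : Function.Surjective (Curv2.resMap K V x) := by
  letI := Curv2.resAlgebra K V x
  have h0 := JacEquidimLib.resTrdegAt_closed (V ↘ Spec (CommRingCat.of K)) hx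
  rw [DimFormulaLib.resTrdegAt_over] at h0
  haveI : Algebra.IsAlgebraic K (V.residueField x) := trdeg_eq_zero_iff.1 h0
  exact (IsAlgClosed.algebraMap_bijective_of_isIntegral (k := K) (K := V.residueField x)).2

/-- An etale map over an algebraically closed field does not change the ordinary double points. -/
theorem ordPt_iff_of_etale {K : Type u} [Field K] [IsAlgClosed K] {V W : Scheme.{u}}
    [V.Over (Spec (CommRingCat.of K))] [W.Over (Spec (CommRingCat.of K))]
    [LocallyOfFiniteType (V ↘ Spec (CommRingCat.of K))] (h : W ⟶ V) [Etale h]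
    (w : h ≫ (V ↘ Spec (CommRingCat.of K)) = (W ↘ Spec (CommRingCat.of K))) {y : W}
    (hy : IsClosed ({y} : Set W)) :
    (letI := Curv2.stalkAlgebra K V (h y); Curv2.IsOrdDoublePt K (V.presheaf.stalk (h y))) ↔
      (letI := Curv2.stalkAlgebra K W y; Curv2.IsOrdDoublePt K (W.presheaf.stalk y)) := by
  letI := Curv2.stalkAlgebra K V (h y)
  letI := Curv2.stalkAlgebra K W y
  haveI : LocallyOfFiniteType (W ↘ Spec (CommRingCat.of K)) := by
    rw [← w]; infer_instance
  haveI := LocallyOfFiniteType.isLocallyNoetherian (V ↘ Spec (CommRingCat.of K))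
  haveI := LocallyOfFiniteType.isLocallyNoetherian (W ↘ Spec (CommRingCat.of K))
  haveI : IsLocalHom (h.stalkMap y).hom := inferInstance
  have hm : (maximalIdeal (V.presheaf.stalk (h y))).map (h.stalkMap y).hom = maximalIdeal (W.presheaf.stalk y) := by
    refine ((EtLocalLib.stalkMap_unramified_iff h y).1 ?_).1
    exact FormallyUnramified.stalkMap h y
  refine isOrdDoublePt_iff (h.stalkMap y).hom (Flat.stalkMap h y) hm ⟨RingHom.injective _, fun z => ?_⟩
    (stalkMap_comp h w y)
  obtain ⟨c, hc⟩ := resMap_surjective (K := K) hy z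
  refine ⟨residue _ (Curv2.stalkMap K V (h y) c), ?_⟩
  rw [ResidueField.map_residue, ← hc]
  exact congrArg (residue _) (RingHom.congr_fun (stalkMap_comp h w y) c)

end Groth.Agent.NodalLib
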